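import Groth.Agent.H98Nis.Chain

set_option autoImplicit false
universe u

open CategoryTheory Limits AlgebraicGeometry Topology TopologicalSpace

set_option maxHeartbeats 400000

/-!
# Uniform affine covers of base changes to affine schemes
-/

namespace Groth.Agent.H98Nis

/-- A finite open cover of an affine scheme has a refinement by as many basic opens. -/
lemma exists_basic_partition {R : Type u} [CommRing R] {n : ℕ} (V : Fin n → (Spec (CommRingCat.of R)).Opens)
    (hV : ⨆ i, V i = ⊤) :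
    ∃ a : Fin n → R, Ideal.span (Set.range a) = ⊤ ∧ ∀ i, PrimeSpectrum.basicOpen (a i) ≤ V i := by
  let I : Fin n → Ideal R := fun i => PrimeSpectrum.vanishingIdeal (R := R) (SetLike.coe (V i))ᶜ
  have hI : ⨆ i, I i = ⊤ := by
    by_contra hne
    obtain ⟨M, hM, hle⟩ := Ideal.exists_le_maximal _ hne
    have hmem : (⟨M, hM.isPrime⟩ : Spec (CommRingCat.of R)) ∈ (⨆ i, V i) := hV ▸ trivial
    obtain ⟨i, hi⟩ := Opens.mem_iSup.mp hmem
    have h : (⟨M, hM.isPrime⟩ : PrimeSpectrum R) ∈ PrimeSpectrum.zeroLocus (I i : Set R) :=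
      (le_iSup I i).trans hle
    have e : PrimeSpectrum.zeroLocus (I i : Set R) = (SetLike.coe (V i))ᶜ :=
      (PrimeSpectrum.zeroLocus_vanishingIdeal_eq_closure _).trans (V i).2.isClosed_compl.closure_eq
    exact (e.le h) hi
  have h1 : (1 : R) ∈ ⨆ i ∈ (Finset.univ : Finset (Fin n)), I i := by simp [hI]
  obtain ⟨μ, hμ⟩ := (Submodule.mem_iSup_finset_iff_exists_sum _ _).mp h1
  refine ⟨fun i => (μ i : R), ?_, fun i P hP => ?_⟩
  · rw [Ideal.eq_top_iff_one, ← hμ]
    exact Submodule.sum_mem _ fun i _ => Ideal.subset_span ⟨i, rfl⟩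
  · by_contra hPV
    exact hP ((PrimeSpectrum.mem_vanishingIdeal _ _).mp (μ i).2 P hPV)

/-- Uniform affine covers. -/
theorem exists_uniform_cover {W Y : Scheme.{u}} (j : W ⟶ Y) [QuasiCompact j] [CompactSpace Y] :
    ∃ m : ℕ, ∀ (B : CommRingCat.{u}) (g : Spec B ⟶ Y),
      ∃ U : Fin m → (Limits.pullback j g).Opens, (∀ k, IsAffineOpen (U k)) ∧ ⨆ k, U k = ⊤ := by
  classical
  obtain ⟨s₀, hs₀, hsY₀⟩ := (isCompact_and_isOpen_iff_finite_and_eq_biUnion_affineOpens (U := (Set.univ : Set Y))).mp ⟨isCompact_univ, isOpen_univ⟩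
  obtain ⟨s, hsY⟩ : ∃ s : Finset Y.affineOpens, (Set.univ : Set Y) = ⋃ i ∈ s, (i : Set Y) :=
    ⟨hs₀.toFinset, by rw [hsY₀]; simp⟩
  let V : ↥s → Y.Opens := fun v => v.1.1
  have hW : ∀ v : ↥s, ∃ t : Finset W.affineOpens, (j ⁻¹ᵁ V v : Set W) = ⋃ i ∈ t, (i : Set W) := by
    intro v
    obtain ⟨t, ht, e⟩ := (isCompact_and_isOpen_iff_finite_and_eq_biUnion_affineOpens (U := (j ⁻¹ᵁ V v : Set W))).mp
      ⟨j.isCompact_preimage v.1.2.isCompact, (j ⁻¹ᵁ V v).2⟩
    exact ⟨ht.toFinset, by rw [e]; simp⟩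
  choose t ht using hW
  let σ := Σ v : ↥s, ↥(t v)
  let e : Fin (Fintype.card σ) ≃ σ := (Fintype.equivFin σ).symm
  refine ⟨Fintype.card σ, fun B g => ?_⟩
  let e' : Fin (Fintype.card ↥s) ≃ ↥s := (Fintype.equivFin ↥s).symm
  obtain ⟨a, hspan, ha⟩ := exists_basic_partition (R := B) (fun i => g ⁻¹ᵁ V (e' i)) (by
    refine eq_top_iff.mpr fun P _ => ?_
    have hP : g P ∈ (Set.univ : Set Y) := trivial
    rw [hsY] at hP
    obtain ⟨v, hv, hPv⟩ := Set.mem_iUnion₂.mp hP
    exact Opens.mem_iSup.mpr ⟨e'.symm ⟨v, hv⟩, by simp only [Equiv.apply_symm_apply]; exact hPv⟩)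
  let D : ↥s → (Spec B).Opens := fun v => PrimeSpectrum.basicOpen (a (e'.symm v))
  let O : σ → (Limits.pullback j g).Opens := fun p =>
    pullback.fst j g ⁻¹ᵁ p.2.1.1 ⊓ pullback.snd j g ⁻¹ᵁ D p.1
  refine ⟨fun k => O (e k), fun k => ?_, ?_⟩
  · show IsAffineOpen (O (e k))
    obtain ⟨v, i⟩ := e k
    have hiW : i.1.1 ≤ j ⁻¹ᵁ V v := fun x hx => by
      show x ∈ (j ⁻¹ᵁ V v : Set W)
      rw [ht v]
      exact Set.mem_biUnion i.2 hx
    have hDV : D v ≤ g ⁻¹ᵁ V v := fun P hP => by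
      have h := ha (e'.symm v) hP
      rw [Equiv.apply_symm_apply] at h
      exact h
    have hDa : IsAffineOpen (D v) := IsAffineOpen.Spec_basicOpen _
    let q := pullback.map (j.resLE (V v) i.1.1 hiW) (g.resLE (V v) (D v) hDV) j g
      i.1.1.ι (D v).ι (V v).ι (by simp) (by simp)
    have hr : Set.range q = (pullback.fst j g ⁻¹ᵁ i.1.1 ⊓ pullback.snd j g ⁻¹ᵁ D v : (Limits.pullback j g).Opens) := by
      simp only [q]
      rw [Scheme.Pullback.range_map]
      simp [Scheme.Opens.range_ι]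
    have : IsAffine i.1.1 := i.1.2
    have : IsAffine (D v) := hDa
    have : IsAffine (V v) := v.1.2
    have : IsOpenImmersion q := inferInstance
    have hq : q.opensRange = pullback.fst j g ⁻¹ᵁ i.1.1 ⊓ pullback.snd j g ⁻¹ᵁ D v := Opens.ext hr
    show IsAffineOpen (pullback.fst j g ⁻¹ᵁ i.1.1 ⊓ pullback.snd j g ⁻¹ᵁ D v)
    rw [← hq]
    exact isAffineOpen_opensRange q
  · refine eq_top_iff.mpr fun x _ => ?_
    obtain ⟨l, hl⟩ : ∃ l, pullback.snd j g x ∈ PrimeSpectrum.basicOpen (a l) := by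
      by_contra! hcon
      refine (pullback.snd j g x).2.ne_top (eq_top_iff.mpr (hspan ▸ Ideal.span_le.mpr ?_))
      rintro _ ⟨l, rfl⟩
      exact not_not.mp (hcon l)
    have hg : g (pullback.snd j g x) ∈ V (e' l) := ha l hl
    rw [← Scheme.Hom.comp_apply, ← pullback.condition, Scheme.Hom.comp_apply] at hg
    have hmem : pullback.fst j g x ∈ (j ⁻¹ᵁ V (e' l) : Set W) := hg
    rw [ht] at hmem
    obtain ⟨i, hi, hxi⟩ := Set.mem_iUnion₂.mp hmem
    refine Opens.mem_iSup.mpr ⟨e.symm ⟨e' l, ⟨i, hi⟩⟩, ?_⟩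
    show x ∈ O (e (e.symm _))
    rw [Equiv.apply_symm_apply]
    refine ⟨hxi, ?_⟩
    show pullback.snd j g x ∈ D (e' l)
    simp only [D, Equiv.symm_apply_apply]
    exact hl

/-- Affine refinements of base changes of Nisnevich covers. -/
theorem exists_uniform_nisCover {U Y : Scheme.{u}} [CompactSpace U] [QuasiSeparatedSpace U] [CompactSpace Y] [QuasiSeparatedSpace Y] (f : U ⟶ Y) (m' : ℕ)
    (hf : W4c5algebraiztannaka.IsNisCoverLen f m') :
    ∃ m : ℕ, ∀ (B : CommRingCat.{u}) (g : Spec B ⟶ Y),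
      ∃ (V : Scheme.{u}) (_ : IsAffine V) (v : V ⟶ Spec B) (w : V ⟶ U),
        W4c5algebraiztannaka.IsNisCoverLen v m ∧ w ≫ f = v ≫ g := by
  have : QuasiCompact (f ≫ terminal.from Y) := by
    rw [terminal.comp_from]; exact (compactSpace_iff_quasiCompact U).mp inferInstance
  have hqc : QuasiCompact f := QuasiCompact.of_comp f (terminal.from Y)
  obtain ⟨het, hc⟩ := isNisCoverLen_iff.mp hf
  obtain ⟨k, hk⟩ := exists_uniform_cover f
  refine ⟨k * m', fun B g => ?_⟩
  obtain ⟨O, hO, hcov⟩ := hk B g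
  have : QuasiCompact (g ≫ terminal.from Y) := by
    rw [terminal.comp_from]; exact (compactSpace_iff_quasiCompact (Spec B)).mp inferInstance
  have : QuasiCompact g := QuasiCompact.of_comp g (terminal.from Y)
  have hp := chain_pullback g hc
  rw [Set.preimage_empty, Set.preimage_univ] at hp
  have : CompactSpace ↥(Limits.pullback f g) := QuasiCompact.compactSpace_of_compactSpace (pullback.snd f g)
  have : QuasiSeparated f := by
    have : QuasiSeparated (f ≫ terminal.from Y) := by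
      rw [terminal.comp_from]; exact (quasiSeparatedSpace_iff_quasiSeparated U).mp inferInstance
    exact QuasiSeparated.of_comp f (terminal.from Y)
  have : QuasiSeparated (pullback.snd f g) := MorphismProperty.pullback_snd (P := @QuasiSeparated) f g inferInstance
  have : QuasiSeparatedSpace ↥(Limits.pullback f g) := quasiSeparatedSpace_of_quasiSeparated (pullback.snd f g)
  have hsig := chain_sigma k O (fun i => (hO i).isCompact) hcov
  have : ∀ i, IsAffine ((O i : (Limits.pullback f g).Opens) : Scheme.{u}) := fun i => hO i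
  have : Etale f := het
  have : IsZariskiLocalAtSource (@Etale.{u}) :=
    HasRingHomProperty.instIsZariskiLocalAtSource (P := @Etale.{u}) (Q := RingHom.Etale)
  have : Etale (Sigma.desc fun i => (O i).ι) :=
    IsZariskiLocalAtSource.sigmaDesc (P := @Etale) fun i => inferInstance
  exact ⟨∐ fun i => ((O i : (Limits.pullback f g).Opens) : Scheme.{u}), inferInstance,
    Sigma.desc (fun i => (O i).ι) ≫ pullback.snd f g, Sigma.desc (fun i => (O i).ι) ≫ pullback.fst f g,
    isNisCoverLen_iff.mpr ⟨inferInstance, chain_comp hsig hp⟩, by simp [pullback.condition]⟩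

end Groth.Agent.H98Nis
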