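import Groth.Prelude.Def_W4c5algebraiztannakaNis
import Mathlib

set_option autoImplicit false
universe u

open CategoryTheory Limits AlgebraicGeometry Topology TopologicalSpace W4c5algebraiztannaka

set_option maxHeartbeats 400000

/-!
# Nisnevich covers of bounded length: base change, composition, open covers
-/

namespace Groth.Agent.H98Nis

variable {U Y : Scheme.{u}}

/-- The closed constructible subsets. -/
def Good (Z : Set Y) : Prop := IsClosed Z ∧ IsConstructible Z

/-- Chains of closed constructible subsets with sections on the differences. -/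
inductive Chain (f : U ⟶ Y) : Set Y → Set Y → ℕ → Prop
  | nil (A : Set Y) (hA : Good A) : Chain f A A 0
  | snoc {A B C : Set Y} {n : ℕ} (h : Chain f A B n) (hBC : B ⊆ C) (hC : Good C)
      (hs : HasSectOver f (C \ B)) : Chain f A C (n + 1)

lemma Chain.append {f : U ⟶ Y} {A B C : Set Y} {m n : ℕ} (h₁ : Chain f A B m) (h₂ : Chain f B C n) :
    Chain f A C (m + n) := by
  induction h₂ with
  | nil => exact h₁
  | snoc h hBC hC hs ih => exact ih.snoc hBC hC hs

lemma chain_of_fun {f : U ⟶ Y} : ∀ {n : ℕ} (Z : Fin (n + 1) → Set Y), Monotone Z → (∀ k, Good (Z k)) →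
    (∀ k : Fin n, HasSectOver f (Z k.succ \ Z k.castSucc)) → Chain f (Z 0) (Z (Fin.last n)) n
  | 0, Z, _, hg, _ => Chain.nil _ (hg 0)
  | n + 1, Z, hm, hg, hs =>
    (chain_of_fun (fun k => Z k.castSucc) (fun a b h => hm h) (fun k => hg _)
      (fun k => by
        show HasSectOver f (Z k.succ.castSucc \ Z k.castSucc.castSucc)
        rw [← Fin.succ_castSucc]
        exact hs k.castSucc)).snoc
      (hm (Fin.le_last _)) (hg _) (by
        show HasSectOver f (Z (Fin.last (n + 1)) \ Z (Fin.last n).castSucc)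
        rw [← Fin.succ_last]
        exact hs (Fin.last n))

lemma Chain.exists_fun {f : U ⟶ Y} {A B : Set Y} {n : ℕ} (h : Chain f A B n) :
    ∃ Z : Fin (n + 1) → Set Y, Z 0 = A ∧ Z (Fin.last n) = B ∧ Monotone Z ∧ (∀ k, Good (Z k)) ∧
      ∀ k : Fin n, HasSectOver f (Z k.succ \ Z k.castSucc) := by
  induction h with
  | nil hA => exact ⟨fun _ => A, rfl, rfl, monotone_const, fun _ => hA, fun k => k.elim0⟩
  | @snoc B C n h hBC hC hs ih =>
    obtain ⟨Z, h0, h1, hm, hg, hsec⟩ := ih
    refine ⟨Fin.snoc Z C, ?_, Fin.snoc_last _ _, ?_, ?_, ?_⟩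
    · exact (Fin.snoc_castSucc (α := fun _ => Set Y) C Z 0).trans h0
    · rw [Fin.monotone_iff_le_succ]
      intro i
      induction i using Fin.lastCases with
      | last => rw [Fin.succ_last, Fin.snoc_last, Fin.snoc_castSucc, h1]; exact hBC
      | cast j => rw [Fin.succ_castSucc, Fin.snoc_castSucc, Fin.snoc_castSucc]; exact hm (Fin.castSucc_le_succ j)
    · intro i
      induction i using Fin.lastCases with
      | last => rw [Fin.snoc_last]; exact hC
      | cast j => rw [Fin.snoc_castSucc]; exact hg j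
    · intro i
      induction i using Fin.lastCases with
      | last => rw [Fin.succ_last, Fin.snoc_last, Fin.snoc_castSucc, h1]; exact hs
      | cast j => rw [Fin.succ_castSucc, Fin.snoc_castSucc, Fin.snoc_castSucc]; exact hsec j

theorem isNisCoverLen_iff {f : U ⟶ Y} {m : ℕ} :
    IsNisCoverLen f m ↔ Etale f ∧ Chain f ∅ Set.univ m := by
  constructor
  · rintro ⟨het, Z, h0, h1, hm, hg, hs⟩
    exact ⟨het, h0 ▸ h1 ▸ chain_of_fun Z hm hg hs⟩
  · rintro ⟨het, h⟩
    obtain ⟨Z, h0, h1, hm, hg, hs⟩ := h.exists_fun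
    exact ⟨het, Z, h0, h1, hm, hg, hs⟩

lemma good_empty : Good (∅ : Set Y) := ⟨isClosed_empty, IsConstructible.empty⟩

lemma good_univ : Good (Set.univ : Set Y) := ⟨isClosed_univ, IsConstructible.univ⟩

lemma isCompact_of_isConstructible [CompactSpace Y] [QuasiSeparatedSpace Y] {s : Set Y}
    (hs : IsConstructible s) : IsCompact s := by
  induction s, hs using IsConstructible.induction_of_isTopologicalBasis
    (b := fun V : Option {V : Set Y // IsOpen V ∧ IsCompact V} => V.elim ∅ (fun V => V.1)) with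
  | basis =>
    refine isTopologicalBasis_of_isOpen_of_nhds ?_ ?_
    · rintro _ ⟨(_ | V), rfl⟩
      · exact isOpen_empty
      · exact V.2.1
    · intro a W haW hW
      obtain ⟨V, ⟨hVo, hVc⟩, haV, hVW⟩ := PrespectralSpace.isTopologicalBasis.exists_subset_of_mem_open haW hW
      exact ⟨V, ⟨some ⟨V, hVo, hVc⟩, rfl⟩, haV, hVW⟩
  | isCompact_basis i =>
    rcases i with _ | V
    · exact isCompact_empty
    · exact V.2.2
  | sdiff i t ht =>
    rw [Set.sdiff_eq]
    refine IsCompact.inter_right ?_ (IsOpen.isClosed_compl (isOpen_biUnion fun j _ => ?_))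
    · rcases i with _ | V
      · exact isCompact_empty
      · exact V.2.2
    · rcases j with _ | V
      · exact isOpen_empty
      · exact V.2.1
  | union _ _ _ _ h1 h2 => exact h1.union h2

/-- A compact open subset of a subspace is cut out by a compact open. -/
lemma exists_isCompact_open_preimage {T : Type*} [TopologicalSpace T] {g : T → Y} (hg : IsInducing g)
    {O : Set T} (hO : IsOpen O) (hOc : IsCompact O) : ∃ V : Set Y, IsOpen V ∧ IsCompact V ∧ g ⁻¹' V = O := by
  obtain ⟨W, hW, rfl⟩ := hg.isOpen_iff.mp hO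
  let 𝒱 := {V : Set Y // (IsOpen V ∧ IsCompact V) ∧ V ⊆ W}
  have hcov : g ⁻¹' W ⊆ ⋃ V : 𝒱, g ⁻¹' V.1 := fun x hx => by
    obtain ⟨V, hV, hxV, hVW⟩ := PrespectralSpace.isTopologicalBasis.exists_subset_of_mem_open (show g x ∈ W from hx) hW
    exact Set.mem_iUnion.mpr ⟨⟨V, hV, hVW⟩, hxV⟩
  obtain ⟨t, ht⟩ := hOc.elim_finite_subcover _ (fun V : 𝒱 => V.2.1.1.preimage hg.continuous) hcov
  refine ⟨⋃ V ∈ t, V.1, isOpen_biUnion fun V _ => V.2.1.1, t.finite_toSet.isCompact_biUnion fun V _ => V.2.1.2, ?_⟩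
  refine Set.Subset.antisymm ?_ ?_
  · rw [Set.preimage_iUnion₂]
    exact Set.iUnion₂_subset fun V _ => Set.preimage_mono V.2.2
  · rw [Set.preimage_iUnion₂]
    exact ht

/-- Base change. -/
theorem chain_pullback {Y' : Scheme.{u}} {f : U ⟶ Y} (g : Y' ⟶ Y) [QuasiCompact g] {A B : Set Y} {n : ℕ}
    (h : Chain f A B n) : Chain (pullback.snd f g) (g ⁻¹' A) (g ⁻¹' B) n := by
  induction h with
  | nil hA => exact Chain.nil _ ⟨hA.1.preimage g.continuous, g.isConstructible_preimage hA.2⟩
  | @snoc B C n h hBC hC hs ih =>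
    refine ih.snoc (Set.preimage_mono hBC) ⟨hC.1.preimage g.continuous, g.isConstructible_preimage hC.2⟩ ?_
    obtain ⟨T, i, s, hi, hr, hsi⟩ := hs
    refine ⟨pullback i g, pullback.snd i g,
      pullback.lift (pullback.fst i g ≫ s) (pullback.snd i g) (by rw [Category.assoc, hsi, pullback.condition]),
      inferInstance, ?_, pullback.lift_snd _ _ _⟩
    show Set.range (pullback.snd i g) = _
    rw [Scheme.Pullback.range_snd, ← Set.preimage_sdiff, ← hr]

/-- Composition. -/
theorem chain_comp {Y₁ Y₂ Y₃ : Scheme.{u}} [CompactSpace Y₂] [QuasiSeparatedSpace Y₂]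
    [CompactSpace Y₃] [QuasiSeparatedSpace Y₃] {g₁ : Y₁ ⟶ Y₂} {g₂ : Y₂ ⟶ Y₃} {m₁ : ℕ}
    (h₁ : Chain g₁ ∅ Set.univ m₁) {A B : Set Y₃} {n : ℕ} (h₂ : Chain g₂ A B n) :
    Chain (g₁ ≫ g₂) A B (m₁ * n) := by
  induction h₂ with
  | nil hA => exact Chain.nil _ hA
  | @snoc B C n h hBC hC hs ih =>
    rw [Nat.mul_succ]
    refine ih.append ?_
    have hB : Good B := by cases h with
      | nil hA => exact hA
      | snoc _ _ hC _ => exact hC
    obtain ⟨T, g, s, hg, hr, hsg⟩ := hs
    have hind : IsInducing g := g.isEmbedding.isInducing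
    have : CompactSpace T := ⟨by
      rw [hind.isCompact_iff, Set.image_univ, show Set.range g = C \ B from hr]
      exact isCompact_of_isConstructible (hC.2.sdiff hB.2)⟩
    have : QuasiSeparatedSpace T := quasiSeparatedSpace_of_quasiSeparated g
    have : QuasiCompact (s ≫ terminal.from Y₂) := by
      rw [terminal.comp_from]
      exact (compactSpace_iff_quasiCompact T).mp inferInstance
    have hqc : QuasiCompact s := QuasiCompact.of_comp s (terminal.from Y₂)
    let Φ : Set Y₂ → Set Y₃ := fun S => B ∪ g '' (s ⁻¹' S)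
    have hgood : ∀ S, Good S → Good (Φ S) := by
      intro S hS
      have hO : IsCompact (s ⁻¹' Sᶜ) := isCompact_of_isConstructible (s.isConstructible_preimage hS.2.compl)
      obtain ⟨V, hVo, hVc, hV⟩ := exists_isCompact_open_preimage hind (hS.1.isOpen_compl.preimage s.continuous) hO
      have e : Φ S = B ∪ (C \ V) := by
        ext y
        constructor
        · rintro (hy | ⟨x, hx, rfl⟩)
          · exact Or.inl hy
          · refine Or.inr ⟨(show g x ∈ C \ B from hr ▸ ⟨x, rfl⟩).1, fun hxV => ?_⟩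
            have hx' : x ∈ g ⁻¹' V := hxV
            rw [hV] at hx'
            exact hx' hx
        · rintro (hy | ⟨hyC, hyV⟩)
          · exact Or.inl hy
          · by_cases hyB : y ∈ B
            · exact Or.inl hyB
            · obtain ⟨x, rfl⟩ : y ∈ Set.range g := (show Set.range g = C \ B from hr) ▸ ⟨hyC, hyB⟩
              refine Or.inr ⟨x, ?_, rfl⟩
              by_contra hx
              exact hyV (show x ∈ g ⁻¹' V from hV ▸ hx)
      rw [e]
      exact ⟨hB.1.union (hC.1.sdiff hVo), hB.2.union (hC.2.sdiff (hVc.isConstructible hVo))⟩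
    have key : ∀ {S S' : Set Y₂} {l : ℕ}, Chain g₁ S S' l → Chain (g₁ ≫ g₂) (Φ S) (Φ S') l := by
      intro S S' l hl
      induction hl with
      | nil hS => exact Chain.nil _ (hgood _ hS)
      | @snoc S' S'' l hl hsub hg'' hsec ihl =>
        refine ihl.snoc (Set.union_subset_union_right _ (Set.image_mono (Set.preimage_mono hsub))) (hgood _ hg'') ?_
        obtain ⟨T₁, h', t, hh', hr', hth⟩ := hsec
        refine ⟨pullback s h', pullback.fst s h' ≫ g, pullback.snd s h' ≫ t, inferInstance, ?_, ?_⟩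
        · show Set.range (pullback.fst s h' ≫ g) = _
          rw [Scheme.Hom.comp_base, TopCat.coe_comp, Set.range_comp, Scheme.Pullback.range_fst,
            show Set.range h' = S'' \ S' from hr']
          have hinj : Function.Injective g := g.isEmbedding.injective
          ext y
          constructor
          · rintro ⟨x, hx, rfl⟩
            have hxB : g x ∉ B := (show g x ∈ C \ B from hr ▸ ⟨x, rfl⟩).2
            refine ⟨Or.inr ⟨x, hx.1, rfl⟩, ?_⟩
            rintro (h' | ⟨x', hx', he⟩)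
            · exact hxB h'
            · exact hx.2 (hinj he ▸ hx')
          · rintro ⟨hy, hy'⟩
            rcases hy with hy | ⟨x, hx, rfl⟩
            · exact absurd (Or.inl hy) hy'
            · exact ⟨x, ⟨hx, fun h => hy' (Or.inr ⟨x, h, rfl⟩)⟩, rfl⟩
        · rw [Category.assoc, reassoc_of% hth, ← pullback.condition_assoc, hsg]
    have e0 : Φ ∅ = B := by simp [Φ]
    have e1 : Φ Set.univ = C := by
      show B ∪ g '' (s ⁻¹' Set.univ) = C
      rw [Set.preimage_univ, Set.image_univ, show Set.range g = C \ B from hr, Set.union_sdiff_self,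
        Set.union_eq_right.mpr hBC]
    exact e0 ▸ e1 ▸ key h₁

/-- Finite covers by quasi-compact opens. -/
theorem chain_sigma [CompactSpace U] [QuasiSeparatedSpace U] (k : ℕ) (V : Fin k → U.Opens)
    (hV : ∀ i, IsCompact (V i : Set U)) (hcov : ⨆ i, V i = ⊤) :
    Chain (Sigma.desc fun i => (V i).ι) ∅ Set.univ k := by
  let Z : Fin (k + 1) → Set U := fun j => (⋃ i ∈ {i : Fin k | j.val ≤ i.val}, (V i : Set U))ᶜ
  have hg : ∀ j, Good (Z j) := fun j => ⟨(isOpen_biUnion fun i _ => (V i).2).isClosed_compl,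
    (IsConstructible.biUnion (Set.toFinite _) fun i _ => (hV i).isConstructible (V i).2).compl⟩
  have h0 : Z 0 = ∅ := by
    refine Set.compl_empty_iff.mpr (Set.eq_univ_of_forall fun x => ?_)
    have : x ∈ (⨆ i, V i : U.Opens) := hcov ▸ trivial
    obtain ⟨i, hi⟩ := Opens.mem_iSup.mp this
    exact Set.mem_biUnion (x := i) (Nat.zero_le _) hi
  have h1 : Z (Fin.last k) = Set.univ := by
    refine Set.compl_univ_iff.mpr (Set.eq_empty_of_forall_notMem fun x hx => ?_)
    obtain ⟨i, hi, -⟩ := Set.mem_iUnion₂.mp hx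
    exact absurd i.2 (not_lt.mpr hi)
  rw [← h0, ← h1]
  refine chain_of_fun Z (fun a b hab => Set.compl_subset_compl.mpr
    (Set.biUnion_subset_biUnion_left fun i hi => le_trans (Fin.le_def.mp hab) hi)) hg fun j => ?_
  let W : Closeds ↥(V j) := ⟨(V j).ι ⁻¹' Z j.succ, (hg _).1.preimage (V j).ι.continuous⟩
  let I := Scheme.IdealSheafData.vanishingIdeal (X := (V j : Scheme.{u})) W
  refine ⟨I.subscheme, I.subschemeι ≫ (V j).ι,
    I.subschemeι ≫ Sigma.ι (fun i => ((V i : U.Opens) : Scheme.{u})) j, inferInstance, ?_, by simp⟩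
  show Set.range (I.subschemeι ≫ (V j).ι) = _
  rw [Scheme.Hom.comp_base, TopCat.coe_comp, Set.range_comp, Scheme.IdealSheafData.range_subschemeι,
    Scheme.IdealSheafData.coe_support_vanishingIdeal]
  show (V j).ι '' ((V j).ι ⁻¹' Z j.succ) = _
  rw [Set.image_preimage_eq_inter_range, Scheme.Opens.range_ι]
  ext x
  simp only [Z, Set.mem_inter_iff, Set.mem_compl_iff, Set.mem_iUnion, Set.mem_sdiff, SetLike.mem_coe, exists_prop,
    Set.mem_ofPred_eq, Fin.val_succ, Fin.val_castSucc, not_exists, not_and, not_forall, not_not]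
  constructor
  · rintro ⟨h, hx⟩
    exact ⟨h, ⟨j, le_rfl, hx⟩⟩
  · rintro ⟨h, i, hi, hx⟩
    refine ⟨h, ?_⟩
    rcases eq_or_lt_of_le hi with e | e
    · rwa [show j = i from Fin.ext e]
    · exact absurd hx (h i e)

end Groth.Agent.H98Nis
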